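import Groth.Agent.BiratUnib.Affine
import Groth.Agent.S5863
import Groth.Agent.FlatDescent.Point

/-!
# Integral birational morphisms and geometrically unibranch points
-/

set_option autoImplicit false

universe u

open CategoryTheory CategoryTheory.Limits AlgebraicGeometry IsLocalRing

namespace Groth.Agent.BiratUnib

theorem isGeomUnibranch_iff_isRadicialAt {X Y : Scheme.{u}} (f : X ⟶ Y) [IsIntegralHom f]
    (hf : RadPt.IsBirational f) (y : Y) :
    CAlg2.IsGeomUnibranch (Y.presheaf.stalk y) ↔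
      (RadPt.IsRadicialAt f y ∧ ∀ x : X, f x = y → CAlg2.IsGeomUnibranch (X.presheaf.stalk x)) := by
  let j := Y.fromSpecStalk y
  haveI : Flat j := Groth.FlatDescent.flat_fromSpecStalk y
  let P := pullback f j
  haveI : IsAffine P := isAffine_of_isAffineHom (pullback.snd f j)
  let e := P.isoSpec
  obtain ⟨φ, hφ⟩ := Spec.map_surjective (e.inv ≫ pullback.snd f j)
  let g : Spec Γ(P, ⊤) ⟶ X := e.inv ≫ pullback.fst f j
  have sq : IsPullback g (Spec.map φ) f j :=
    IsPullback.of_iso (IsPullback.of_hasPullback f j) e (Iso.refl _) (Iso.refl _) (Iso.refl _)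
      (by simp [g, P]) (by simp [hφ, P]) (by simp) (by simp)
  haveI : IsIntegralHom (Spec.map φ) := MorphismProperty.of_isPullback sq ‹IsIntegralHom f›
  haveI : Flat g := MorphismProperty.of_isPullback sq.flip ‹Flat j›
  haveI : IsPreimmersion g := MorphismProperty.of_isPullback sq.flip (inferInstance : IsPreimmersion j)
  have hj : j (closedPoint (Y.presheaf.stalk y)) = y := Scheme.fromSpecStalk_closedPoint
  have hstalk : ∀ z, CAlg2.IsGeomUnibranch (X.presheaf.stalk (g z)) ↔
      CAlg2.IsGeomUnibranch ((Spec Γ(P, ⊤)).presheaf.stalk z) := fun z =>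
    let E := RingEquiv.ofBijective _ (Groth.FlatDescent.bijective_stalkMap g z)
    ⟨fun h => GeomUnib.isGeomUnibranch_of_ringEquiv E.symm h, fun h => GeomUnib.isGeomUnibranch_of_ringEquiv E h⟩
  have hw : ∀ z, f (g z) = j (Spec.map φ z) := fun z => by
    rw [← Scheme.Hom.comp_apply, ← Scheme.Hom.comp_apply, sq.w]
  rw [isGeomUnibranch_iff_local φ (BiratBC.isBirational_of_isPullback sq hf)
    (IsIntegralHom.SpecMap_iff.1 inferInstance), ← S5863.result sq (closedPoint _), hj]
  refine and_congr_right fun _ => ⟨fun h x hx => ?_, fun h z hz => (hstalk z).1 (h _ (by rw [hw, hz, hj]))⟩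
  obtain ⟨w, hw₁, hw₂⟩ := Scheme.Pullback.exists_preimage_pullback (f := f) (g := j) x
    (closedPoint (Y.presheaf.stalk y)) (hx.trans hj.symm)
  have hz : g (e.hom w) = x := by
    rw [← hw₁, ← Scheme.Hom.comp_apply]
    simp [g, P]
  rw [← hz]
  refine (hstalk _).2 (h _ ?_)
  rw [← hw₂, ← Scheme.Hom.comp_apply, hφ, e.hom_inv_id_assoc]

end Groth.Agent.BiratUnib
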